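import Groth.Agent.Lib.LocalCoh.TransformDerived
import Groth.Agent.Lib.LCFin.Seq
import Mathlib.RingTheory.Filtration
import Mathlib.RingTheory.Finiteness.Ideal

/-!
# Compatible numerators and ideal transforms

`H¹` killed by `f ^ s`: compatible numerators glue after multiplication by `f ^ s`;
`H²` killed by `f ^ s`: compatible numerators modulo `f ^ N` lift after multiplication by `f ^ s`.
-/

set_option autoImplicit false
set_option backward.isDefEq.respectTransparency false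

universe u

open CategoryTheory Opposite Groth.Agent.Lib.LocalCoh

namespace Groth.Agent.H80.Clopen.Torsion

variable {R : Type u} [CommRing R] [IsNoetherianRing R] {ι : Type} [Finite ι] (a : ι → R)
  {M : Type u} [AddCommGroup M] [Module R M]

local notation "II" => Ideal.span (Set.range a)

/-- The numerators agree on overlaps. -/
def Cpt (k : ℕ) (m : ι → M) : Prop :=
  ∀ i j, ∃ l : ℕ, (a i * a j) ^ l • (a j ^ k • m i - a i ^ k • m j) = 0

/-- The elements which vanish on every chart. -/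
def locZero : Submodule R M where
  carrier := {x | ∀ i, ∃ l : ℕ, a i ^ l • x = 0}
  zero_mem' := fun _ => ⟨0, smul_zero _⟩
  add_mem' := fun {x y} hx hy i => by
    obtain ⟨l, hl⟩ := hx i
    obtain ⟨l', hl'⟩ := hy i
    exact ⟨l + l', by rw [smul_add, pow_add, mul_smul _ _ y, hl', smul_zero, mul_comm, mul_smul, hl,
      smul_zero, add_zero]⟩
  smul_mem' := fun c x hx i => (hx i).imp fun l hl => by rw [smul_comm, hl, smul_zero]

omit [IsNoetherianRing R] in
theorem exists_common_exponent {β : Type} [Finite β] (c : β → R) (x : β → M)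
    (h : ∀ b, ∃ l : ℕ, c b ^ l • x b = 0) : ∃ L : ℕ, ∀ b, c b ^ L • x b = 0 := by
  have := Fintype.ofFinite β
  choose l hl using h
  refine ⟨Finset.univ.sup l, fun b => ?_⟩
  rw [← Nat.sub_add_cancel (Finset.le_sup (f := l) (Finset.mem_univ b)), pow_add, mul_smul, hl,
    smul_zero]

omit [IsNoetherianRing R] in
theorem exists_pow_le_span_pow (q : ℕ) :
    ∃ P : ℕ, II ^ P ≤ Ideal.span (Set.range fun i => a i ^ q) := by
  refine Ideal.exists_pow_le_of_le_radical_of_fg ?_ ?_
  · exact Ideal.span_le.mpr (Set.range_subset_iff.mpr fun i =>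
      ⟨q, Ideal.subset_span ⟨i, rfl⟩⟩)
  · exact Submodule.fg_span (Set.finite_range a)

variable [Module.Finite R M]

/-- Elements deep in the adic filtration are determined by their restrictions to the charts. -/
theorem exists_sep : ∃ L : ℕ, ∀ x ∈ II ^ L • (⊤ : Submodule R M), x ∈ locZero a → x = 0 := by
  classical
  obtain ⟨S, hS⟩ := (IsNoetherian.noetherian (locZero a (M := M)))
  have hmem : ∀ x : S, (x : M) ∈ locZero a := fun x => hS ▸ Submodule.subset_span x.2
  have := Fintype.ofFinite ι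
  choose l hl using fun (x : S) (i : ι) => hmem x i
  let q := Finset.univ.sup fun x : S => Finset.univ.sup (l x)
  have hkill : Ideal.span (Set.range fun i => a i ^ q) • locZero a (M := M) = ⊥ := by
    rw [← hS, Submodule.span_smul_span, Submodule.span_eq_bot]
    rintro _ ⟨_, ⟨i, rfl⟩, x, hx, rfl⟩
    have : l ⟨x, hx⟩ i ≤ q :=
      (Finset.le_sup (f := l ⟨x, hx⟩) (Finset.mem_univ i)).trans
        (Finset.le_sup (f := fun x : S => Finset.univ.sup (l x)) (Finset.mem_univ (⟨x, hx⟩ : S)))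
    change a i ^ q • x = 0
    rw [← Nat.sub_add_cancel this, pow_add, mul_smul, hl ⟨x, hx⟩ i, smul_zero]
  obtain ⟨P, hP⟩ := exists_pow_le_span_pow a q
  obtain ⟨c, hc⟩ := (II).exists_pow_inf_eq_pow_smul (locZero a (M := M))
  refine ⟨P + c, fun x hx hx0 => ?_⟩
  have h1 : x ∈ II ^ (P + c) • (⊤ : Submodule R M) ⊓ locZero a := ⟨hx, hx0⟩
  rw [hc (P + c) (Nat.le_add_left _ _), Nat.add_sub_cancel] at h1
  exact (Submodule.mem_bot R).mp
    (hkill ▸ Submodule.smul_mono hP inf_le_right h1)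

/-- Compatible numerators define an element of the ideal transform. -/
theorem exists_hom {k : ℕ} {m : ι → M} (hm : Cpt a k m) :
    ∃ (P : ℕ) (φ : ↥(II ^ P) →ₗ[R] M), ∀ (r : ↥(II ^ P)) i, ∃ l : ℕ,
      a i ^ l • (a i ^ k • φ r - (r : R) • m i) = 0 := by
  classical
  obtain ⟨L, hL⟩ := exists_sep a (M := M)
  obtain ⟨l, hl⟩ := exists_common_exponent (fun t : ι × ι => a t.1 * a t.2)
    (fun t => a t.2 ^ k • m t.1 - a t.1 ^ k • m t.2) fun t => hm t.1 t.2
  let Rel : R → M → Prop := fun r w => ∀ i, ∃ e : ℕ, a i ^ e • (a i ^ k • w - r • m i) = 0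
  let S : Submodule R R :=
    { carrier := {r | ∃ w ∈ II ^ L • (⊤ : Submodule R M), Rel r w}
      zero_mem' := ⟨0, zero_mem _, fun i => ⟨0, by simp⟩⟩
      add_mem' := by
        rintro r r' ⟨w, hw, h⟩ ⟨w', hw', h'⟩
        refine ⟨w + w', add_mem hw hw', fun i => ?_⟩
        obtain ⟨e, he⟩ := h i
        obtain ⟨e', he'⟩ := h' i
        refine ⟨e + e', ?_⟩
        rw [smul_add, add_smul, add_sub_add_comm, smul_add, pow_add,
          mul_smul _ _ (a i ^ k • w' - r' • m i), he', smul_zero,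
          mul_comm, mul_smul, he, smul_zero, add_zero]
      smul_mem' := by
        rintro c r ⟨w, hw, h⟩
        refine ⟨c • w, Submodule.smul_mem _ c hw, fun i => (h i).imp fun e he => ?_⟩
        rw [smul_comm (a i ^ k), smul_eq_mul, mul_smul, ← smul_sub, smul_comm, he, smul_zero] }
  let q := k + (l + L)
  obtain ⟨P, hP⟩ := exists_pow_le_span_pow a q
  have hS : Ideal.span (Set.range fun i => a i ^ q) ≤ S := by
    refine Ideal.span_le.mpr (Set.range_subset_iff.mpr fun i => ?_)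
    refine ⟨a i ^ (l + L) • m i, ?_, fun j => ⟨l, ?_⟩⟩
    · rw [pow_add, mul_comm, mul_smul]
      exact Submodule.smul_mem_smul (Ideal.pow_mem_pow (Ideal.subset_span (Set.mem_range_self (f := a) i)) L) trivial
    · have h0 := congrArg (fun z => a i ^ L • z) (hl (i, j))
      simp only [smul_zero, smul_sub, smul_smul] at h0 ⊢
      convert h0 using 1
      simp only [q]
      congr 2 <;> ring
  choose w hw hrel using fun r : ↥(II ^ P) => hS (hP r.2)
  have huniq : ∀ (r : R) (w w' : M), w ∈ II ^ L • (⊤ : Submodule R M) →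
      w' ∈ II ^ L • (⊤ : Submodule R M) → Rel r w → Rel r w' → w = w' := fun r w w' hw hw' h h' =>
    sub_eq_zero.mp (hL _ (sub_mem hw hw') fun i => by
      obtain ⟨e, he⟩ := h i
      obtain ⟨e', he'⟩ := h' i
      refine ⟨e + e' + k, ?_⟩
      have h1 := congrArg (fun z => a i ^ e' • z) he
      have h2 := congrArg (fun z => a i ^ e • z) he'
      simp only [smul_zero] at h1 h2
      rw [smul_smul, ← pow_add, add_comm e'] at h1
      rw [smul_smul, ← pow_add] at h2
      rw [pow_add, mul_smul, smul_sub (a i ^ k), ← sub_sub_sub_cancel_right _ _ (r • m i), smul_sub,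
        h1, h2, sub_self])
  refine ⟨P, { toFun := w, map_add' := fun r r' => ?_, map_smul' := fun c r => ?_ }, fun r i => hrel r i⟩
  · refine huniq ((r : R) + r') _ _ (hw _) (add_mem (hw _) (hw _)) (hrel (r + r')) fun i => ?_
    obtain ⟨e, he⟩ := hrel r i
    obtain ⟨e', he'⟩ := hrel r' i
    refine ⟨e + e', ?_⟩
    rw [smul_add, add_smul, add_sub_add_comm, smul_add, pow_add,
      mul_smul _ _ (a i ^ k • w r' - (r' : R) • m i), he', smul_zero,
      mul_comm, mul_smul, he, smul_zero, add_zero]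
  · refine huniq (c * (r : R)) _ _ (hw _) (Submodule.smul_mem _ c (hw _)) (hrel (c • r))
      fun i => (hrel r i).imp fun e he => ?_
    simp only [RingHom.id_apply]
    rw [smul_comm (a i ^ k), mul_smul, ← smul_sub, smul_comm, he, smul_zero]

omit [Finite ι] [Module.Finite R M] in
/-- Equal elements of the ideal transform agree on a deep power. -/
theorem exists_eq_of_tι_eq {k k' : ℕ} {φ : ↥(II ^ k) →ₗ[R] M} {φ' : ↥(II ^ k') →ₗ[R] M}
    (h : tι II (op (op k)) (ModuleCat.of R M) (ModuleCat.ofHom φ) =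
      tι II (op (op k')) (ModuleCat.of R M) (ModuleCat.ofHom φ')) :
    ∃ n, k ≤ n ∧ k' ≤ n ∧ ∀ (r : R) (h1 : r ∈ II ^ k) (h2 : r ∈ II ^ k'),
      r ∈ II ^ n → φ ⟨r, h1⟩ = φ' ⟨r, h2⟩ := by
  let g : (op (op k) : ℕᵒᵖᵒᵖ) ⟶ op (op (max k k')) := (homOfLE (le_max_left k k')).op.op
  let g' : (op (op k') : ℕᵒᵖᵒᵖ) ⟶ op (op (max k k')) := (homOfLE (le_max_right k k')).op.op
  rw [← tι_w II g, ← tι_w II g'] at h
  have h0 : tι II (op (op (max k k'))) (ModuleCat.of R M)
      (((powSys II).map g).unop ≫ ModuleCat.ofHom φ - ((powSys II).map g').unop ≫ ModuleCat.ofHom φ') = 0 := by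
    have hsub := map_sub (((Limits.colimit.ι (LocCoh.transformDiagram II) (op (op (max k k')))).app
      (ModuleCat.of R M)).hom) (((powSys II).map g).unop ≫ ModuleCat.ofHom φ)
      (((powSys II).map g').unop ≫ ModuleCat.ofHom φ')
    exact hsub.trans (sub_eq_zero.mpr h)
  obtain ⟨n, e, he⟩ := (tι_eq_zero_iff II _ _ _).mp h0
  have hn : max k k' ≤ n.unop.unop := leOfHom e.unop.unop
  refine ⟨n.unop.unop, (le_max_left _ _).trans hn, (le_max_right _ _).trans hn, fun r h1 h2 hr => ?_⟩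
  exact sub_eq_zero.mp (congrArg (fun t => t.hom ⟨r, hr⟩) he)

/-- `H¹` killed by `f ^ s`: numerators glue after multiplication by `f ^ s`. -/
theorem glue_of_killed {f : R} {s : ℕ} (h1 : ∀ z : LocCoh.H II 1 M, f ^ s • z = 0)
    {k : ℕ} {m : ι → M} (hm : Cpt a k m) :
    ∃ x : M, ∀ i, ∃ l : ℕ, a i ^ l • (a i ^ k • x - f ^ s • m i) = 0 := by
  obtain ⟨P, φ, hφ⟩ := exists_hom a hm
  let y := tι II (op (op P)) (ModuleCat.of R M) (ModuleCat.ofHom φ)
  have hy : f ^ s • y ∈ LinearMap.range (LocCoh.toDT II (ModuleCat.of R M)) := by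
    rw [← ker_toH1, LinearMap.mem_ker, map_smul]
    exact h1 _
  obtain ⟨z, hz⟩ := hy
  have hsy : f ^ s • y = tι II (op (op P)) (ModuleCat.of R M) (ModuleCat.ofHom (f ^ s • φ)) :=
    (map_smul ((Limits.colimit.ι (LocCoh.transformDiagram II) (op (op P))).app
      (ModuleCat.of R M)).hom (f ^ s) (ModuleCat.ofHom φ)).symm
  rw [hsy, toDT_eq_tι II (ModuleCat.of R M) (op (op P))] at hz
  obtain ⟨n, hn, -, hn'⟩ := exists_eq_of_tι_eq a
    (φ := (LinearMap.toSpanSingleton R M z).comp (II ^ P).subtype) (φ' := f ^ s • φ) hz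
  refine ⟨z, fun i => ?_⟩
  have hr : a i ^ n ∈ II ^ n := Ideal.pow_mem_pow (Ideal.subset_span (Set.mem_range_self (f := a) i)) n
  have hrP : a i ^ n ∈ II ^ P := Ideal.pow_le_pow_right hn hr
  have he : a i ^ n • z = f ^ s • φ ⟨a i ^ n, hrP⟩ := hn' _ hrP hrP hr
  obtain ⟨l, hl⟩ := hφ ⟨a i ^ n, hrP⟩ i
  refine ⟨l + n, ?_⟩
  have := congrArg (fun t => f ^ s • t) hl
  simp only [smul_zero] at this
  rw [smul_comm (f ^ s), smul_sub (f ^ s), smul_comm (f ^ s) (a i ^ k), ← he,
    smul_comm (f ^ s), smul_comm (a i ^ k) (a i ^ n), ← smul_sub] at this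
  rw [pow_add, mul_smul]
  exact this

/-- `H²` killed by `f ^ s`: numerators modulo `f ^ N` lift after multiplication by `f ^ s`. -/
theorem lift_of_killed {f : R} {s : ℕ} (h2 : ∀ z : LocCoh.H II 2 M, f ^ s • z = 0) (N : ℕ)
    (hf : Function.Injective fun x : M => f ^ N • x)
    {k : ℕ} {m : ι → M} (hm : ∀ i j, ∃ (l : ℕ) (w : M),
      (a i * a j) ^ l • (a j ^ k • m i - a i ^ k • m j) = f ^ N • w) :
    ∃ (k' : ℕ) (p : ι → M), (∀ i j, a j ^ k' • p i = a i ^ k' • p j) ∧
      ∀ i, ∃ (l : ℕ) (w : M),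
        a i ^ l • (a i ^ k • p i - a i ^ k' • f ^ s • m i) = f ^ N • w := by
  let σ : M →ₗ[R] M := f ^ N • LinearMap.id
  have hex : Function.Exact σ (LinearMap.range σ).mkQ := fun x => by
    rw [Submodule.mkQ_apply, Submodule.Quotient.mk_eq_zero]
    exact Iff.rfl
  have hS := Groth.Agent.Lib.LCFin.Seq.ses_shortExact (f := σ) (g := (LinearMap.range σ).mkQ) hf
    (Submodule.mkQ_surjective _) hex
  let S := Groth.Agent.Lib.LCFin.Seq.ses σ (LinearMap.range σ).mkQ hex
  let π := (LinearMap.range σ).mkQ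
  have hm' : Cpt a k fun i => π (m i) := fun i j => by
    obtain ⟨l, w, hw⟩ := hm i j
    refine ⟨l, ?_⟩
    rw [← map_smul, ← map_smul, ← map_sub, ← map_smul, hw]
    exact (Submodule.Quotient.mk_eq_zero _).mpr ⟨w, rfl⟩
  obtain ⟨P, φ, hφ⟩ := exists_hom a hm'
  let y := tι II (op (op P)) S.X₃ (ModuleCat.ofHom φ)
  let e := (((connIso II 0).app S.X₁).toLinearEquiv).trans ((lcIso II 2).app S.X₁).symm.toLinearEquiv
  have hδ : ((transformDeltaSeq II).δ hS 0).hom (f ^ s • y) = 0 := by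
    rw [map_smul]
    refine e.map_eq_zero_iff.mp ?_
    rw [map_smul]
    exact h2 _
  obtain ⟨x, hx⟩ := ((transformDeltaSeq II).exact₃ hS 0 _).mp hδ
  obtain ⟨K, ψ, rfl⟩ := exists_tι II S.X₁ x
  have hsy : f ^ s • y = tι II (op (op P)) S.X₃ (ModuleCat.ofHom (f ^ s • φ)) :=
    (map_smul ((Limits.colimit.ι (LocCoh.transformDiagram II) (op (op P))).app S.X₃).hom (f ^ s)
      (ModuleCat.ofHom φ)).symm
  have hx' : tι II K S.X₃ (ψ ≫ S.g) = f ^ s • y := (map_tι II K S.g ψ).symm.trans hx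
  rw [hsy] at hx'
  obtain ⟨n, hnK, hnP, hn⟩ := exists_eq_of_tι_eq a (k := K.unop.unop)
    (φ := π ∘ₗ ψ.hom) (φ' := f ^ s • φ) hx'
  have hr : ∀ i, a i ^ n ∈ II ^ n := fun i => Ideal.pow_mem_pow (Ideal.subset_span (Set.mem_range_self (f := a) i)) n
  let ψ' : ↥(II ^ K.unop.unop) →ₗ[R] M := ψ.hom
  refine ⟨n, fun i => ψ' ⟨a i ^ n, Ideal.pow_le_pow_right hnK (hr i)⟩, fun i j => ?_, fun i => ?_⟩
  · rw [← map_smul, ← map_smul]
    exact congrArg ψ' (Subtype.ext (mul_comm _ _))
  · have hrP : a i ^ n ∈ II ^ P := Ideal.pow_le_pow_right hnP (hr i)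
    obtain ⟨l, hl⟩ := hφ ⟨a i ^ n, hrP⟩ i
    refine ⟨l, ?_⟩
    have h0 : π (a i ^ l • (a i ^ k • ψ' ⟨a i ^ n, Ideal.pow_le_pow_right hnK (hr i)⟩ -
        a i ^ n • f ^ s • m i)) = 0 := by
      have e1 := hn _ (Ideal.pow_le_pow_right hnK (hr i)) hrP (hr i)
      rw [LinearMap.comp_apply, LinearMap.smul_apply] at e1
      have := congrArg (fun t => f ^ s • t) hl
      simp only [smul_zero] at this
      rw [map_smul, map_sub, map_smul, map_smul, map_smul, e1, ← this]
      simp only [smul_sub, smul_smul]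
      congr 2 <;> ring
    obtain ⟨w, hw⟩ := (Submodule.Quotient.mk_eq_zero _).mp h0
    exact ⟨w, hw.symm⟩

end Groth.Agent.H80.Clopen.Torsion
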