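import Groth.Agent.S1712
import Groth.Agent.S1713
import Groth.Agent.Lib.DMod.Gorenstein
import Groth.Agent.Lib.DMod.Conservative
import Groth.Agent.Lib.DMod.LocalCase
import Groth.Agent.Lib.ExtShDepth.Stalk

/-!
# When a power of `f` kills `H¹` and `H²`, by duality
-/

set_option autoImplicit false
set_option backward.isDefEq.respectTransparency false

universe u

open CategoryTheory IsLocalRing
attribute [local instance] HasDerivedCategory.standard

namespace Groth.Agent.H80.Clopen.Torsion

open Groth.Agent.Lib.DMod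

variable {A : Type u} [CommRing A] [IsLocalRing A] [IsNoetherianRing A]

/-- Depth plus dimension greater than two away from `V(f)` kills `H¹` and `H²` by powers of `f`. -/
theorem exists_killed_of_dualizing {ω : Dual.D A} (hω : Dual.IsDualizing A ω) (f : A)
    (hc : ∀ p : Ideal A, ∀ _ : p.IsPrime, f ∉ p →
      (2 : WithBot ℕ∞) < (LocCoh.depth (Localization.AtPrime p) (Localization.AtPrime p) : WithBot ℕ∞) +
        ringKrullDim (A ⧸ p)) (i : ℕ) (hi : i ≤ 2) :
    ∃ n : ℕ, ∀ x : LocCoh.H (maximalIdeal A) i A, (f ^ n) • x = 0 := by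
  obtain ⟨m, hn⟩ := Conservative.exists_normalized_shift hω
  have hω' : Dual.IsDualizing A (ω⟦m⟧) := Gorenstein.isDualizing_shift hω m
  have hfin := Degree.finite_hom hω' A (-(i : ℤ))
  have hmem : f ∈ (Module.annihilator A (Dual.inD A A ⟶ (ω⟦m⟧)⟦(-(i : ℤ))⟧)).radical := by
    rw [Ideal.radical_eq_sInf]
    refine Submodule.mem_sInf.mpr fun (P : Ideal A) ⟨hP, hP'⟩ => ?_
    by_contra hf
    have hsupp : (⟨P, hP'⟩ : PrimeSpectrum A) ∈
        Module.support A (Dual.inD A A ⟶ (ω⟦m⟧)⟦(-(i : ℤ))⟧) :=
      Module.mem_support_iff_of_finite.mpr hP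
    have h := (Groth.Agent.S1712.result A (ω⟦m⟧) hω' hn A i ⟨P, hP'⟩).mp ⟨i, le_rfl, hsupp⟩
    have he : LocCoh.depth (Localization.AtPrime P) (LocalizedModule P.primeCompl A) =
        LocCoh.depth (Localization.AtPrime P) (Localization.AtPrime P) :=
      Groth.Agent.Lib.Depth.Basic.depth_congr
        (LinearEquiv.refl (Localization.AtPrime P) (LocalizedModule P.primeCompl A))
    rw [he] at h
    exact absurd ((hc P hP' hf).trans_le h) (not_lt.mpr (by exact_mod_cast hi))
  rw [Groth.Agent.S1713.result A (ω⟦m⟧) hω' hn A i] at hmem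
  obtain ⟨n, hn'⟩ := hmem
  exact ⟨n, Module.mem_annihilator.mp hn'⟩

/-- The two forms of the hypothesis. -/
theorem two_lt_depth_add_dim {ω : Dual.D A} (hω : Dual.IsDualizing A ω) (f : A)
    (hf : f ∈ maximalIdeal A)
    (hS : LocCoh.HasSk 2 (Localization.Away f) (Localization.Away f))
    (hd : ∀ p : Ideal A, p ∈ minimalPrimes A → f ∉ p → (3 : WithBot ℕ∞) ≤ ringKrullDim (A ⧸ p))
    (p : Ideal A) (hp : p.IsPrime) (hfp : f ∉ p) :
    (2 : WithBot ℕ∞) < (LocCoh.depth (Localization.AtPrime p) (Localization.AtPrime p) : WithBot ℕ∞) +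
      ringKrullDim (A ⧸ p) := by
  obtain ⟨m, hn⟩ := Conservative.exists_normalized_shift hω
  have hω' : Dual.IsDualizing A (ω⟦m⟧) := Gorenstein.isDualizing_shift hω m
  let x : PrimeSpectrum A := ⟨p, hp⟩
  -- the localisation at `p` is a localisation of `A_f`
  let Q : Ideal (Localization.Away f) := p.map (algebraMap A (Localization.Away f))
  have hdisj : Disjoint (Submonoid.powers f : Set A) p :=
    (Ideal.disjoint_powers_iff_notMem f hp.isRadical).mpr hfp
  have hQ : Q.IsPrime := IsLocalization.isPrime_of_isPrime_disjoint (Submonoid.powers f) _ p hp hdisj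
  have hQp : Q.comap (algebraMap A (Localization.Away f)) = p :=
    IsLocalization.under_map_of_isPrime_disjoint (Submonoid.powers f) _ hp hdisj
  let L := Localization.AtPrime Q
  have hL : IsLocalization.AtPrime L p := by
    have h := IsLocalization.isLocalization_isLocalization_atPrime_isLocalization
      (Submonoid.powers f) L Q
    have gen : ∀ (P : Ideal A) [P.IsPrime], P = Q.comap (algebraMap A (Localization.Away f)) →
        IsLocalization.AtPrime L P := by
      rintro P _ rfl
      exact h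
    exact gen p hQp.symm
  have hS' := hS Q
  rw [Groth.Agent.Lib.Depth.Basic.depth_congr
      (LinearEquiv.refl L (LocalizedModule Q.primeCompl (Localization.Away f))),
    Module.supportDim_eq_of_equiv
      (LinearEquiv.refl L (LocalizedModule Q.primeCompl (Localization.Away f))),
    Module.supportDim_self_eq_ringKrullDim] at hS'
  have hdepth : LocCoh.depth L L = LocCoh.depth (Localization.AtPrime p) (Localization.AtPrime p) := by
    have := Groth.Agent.Lib.ExtShDepth.depth_localization_eq (M := A) p L L (Algebra.linearMap A L)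
    rw [this]
  rw [hdepth, IsLocalization.AtPrime.ringKrullDim_eq_height p L] at hS'
  let d := (-Degree.deg hω' x).toNat
  rw [show ringKrullDim (A ⧸ p) = (d : WithBot ℕ∞) from
    LocalCase.ringKrullDim_quotient_eq_neg_deg hω' hn x]
  obtain ⟨P, hP, hPle⟩ := Ideal.exists_minimalPrimes_le (I := (⊥ : Ideal A)) (J := p) bot_le
  let y : PrimeSpectrum A := ⟨P, hP.1.1⟩
  have hy : 3 ≤ -Degree.deg hω' y := by
    have h := hd P hP fun hfP => hfp (hPle hfP)
    rw [show ringKrullDim (A ⧸ P) = ((-Degree.deg hω' y).toNat : WithBot ℕ∞) from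
      LocalCase.ringKrullDim_quotient_eq_neg_deg hω' hn y] at h
    have : 3 ≤ (-Degree.deg hω' y).toNat := by exact_mod_cast h
    lia
  have hm : x ≠ closedPoint A := fun h => hfp (by
    rw [show p = maximalIdeal A from congrArg PrimeSpectrum.asIdeal h]; exact hf)
  have hd1 : 1 ≤ d := by
    have := Degree.deg_lt hω' (lt_of_le_of_ne (IsLocalRing.le_maximalIdeal hp.ne_top) hm :
      x < closedPoint A)
    rw [LocalCase.deg_closedPoint_eq_zero hω' hn] at this
    simp only [d]
    lia
  have key : ∀ (D : ℕ∞) (k : ℕ), (k : ℕ∞) ≤ D → 2 < k + d →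
      (2 : WithBot ℕ∞) < (D : WithBot ℕ∞) + (d : WithBot ℕ∞) := fun D k hk h => by
    have h' : (2 : WithBot ℕ∞) < ((k + d : ℕ) : WithBot ℕ∞) := Nat.ofNat_lt_cast.mpr h
    rw [Nat.cast_add] at h'
    exact lt_of_lt_of_le h' (add_le_add (WithBot.coe_le_coe.mpr hk) le_rfl)
  by_cases h0 : p ∈ minimalPrimes A
  · refine key _ 0 bot_le ?_
    have h := hd p h0 hfp
    rw [show ringKrullDim (A ⧸ p) = (d : WithBot ℕ∞) from
      LocalCase.ringKrullDim_quotient_eq_neg_deg hω' hn x] at h
    have : 3 ≤ d := by exact_mod_cast h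
    lia
  have : P.IsPrime := hP.1.1
  have hPx : P ≠ p := fun h => h0 (h ▸ hP)
  have hh1 : (1 : ℕ∞) ≤ p.height := by
    rw [Order.one_le_iff_pos, pos_iff_ne_zero]
    exact fun h => h0 (Ideal.height_eq_zero_iff.mp h)
  rcases le_or_gt (2 : ℕ∞) p.height with h2 | h2
  · refine key _ 2 ?_ (by lia)
    have : min ((2 : ℕ∞) : WithBot ℕ∞) (p.height : WithBot ℕ∞) = ((2 : ℕ∞) : WithBot ℕ∞) :=
      min_eq_left (WithBot.coe_le_coe.mpr h2)
    exact WithBot.coe_le_coe.mp (this.symm.trans_le hS')
  · refine key _ 1 ?_ ?_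
    · refine WithBot.coe_le_coe.mp (le_trans (le_min ?_ (WithBot.coe_le_coe.mpr hh1)) hS')
      exact WithBot.coe_le_coe.mpr (by norm_num)
    · -- nothing lies strictly between `P` and `p`
      obtain ⟨z, hzp, hzP⟩ := Degree.exists_mem_notMem (q := y) (p := x) (lt_of_le_of_ne hPle fun h => hPx (congrArg PrimeSpectrum.asIdeal h))
      have hstep := Degree.deg_eq_add_one hω' (q := y) (p := x) hPle hzp hzP fun r hrx hyr hzr => by
        by_contra hne
        have hlt : r.asIdeal < p := lt_of_le_of_ne hrx fun h => hne (PrimeSpectrum.ext h)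
        have hP0 : P < r.asIdeal := lt_of_le_of_ne hyr fun h => hzP ((congrArg (z ∈ ·) h).mpr hzr)
        have a1 : (1 : ℕ∞) ≤ r.asIdeal.height := by
          refine le_trans ?_ (Ideal.height_add_one_le_of_lt_of_isPrime hP0)
          simp
        have a2 : (2 : ℕ∞) ≤ p.height :=
          le_trans (le_trans (by norm_num) (add_le_add a1 le_rfl))
            (Ideal.height_add_one_le_of_lt_of_isPrime hlt)
        exact absurd a2 (not_le.mpr h2)
      simp only [d]
      lia

end Groth.Agent.H80.Clopen.Torsion
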