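import Groth.Agent.H80.Clopen.Torsion.Scheme
import Groth.Agent.H80.Clopen.Hypersurface
import Groth.Agent.Lib.LocalCoh.Change

/-!
# Extension of covers when powers of `f` kill `H¹` and `H²`
-/

set_option autoImplicit false
set_option backward.isDefEq.respectTransparency false

universe u

open CategoryTheory CategoryTheory.Limits AlgebraicGeometry IsLocalRing TensorProduct

namespace Groth.Agent.H80.Clopen

open Groth.Agent.H80

/-- Torsion of local cohomology survives flat base change. -/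
theorem exists_killed_baseChange {A A' : Type u} [CommRing A] [IsNoetherianRing A] [CommRing A']
    [IsNoetherianRing A'] [Algebra A A'] [Module.Flat A A'] (I : Ideal A) (f : A) (i : ℕ)
    (h : ∃ n : ℕ, ∀ x : LocCoh.H I i A, (f ^ n) • x = 0) :
    ∃ n : ℕ, ∀ x : LocCoh.H (I.map (algebraMap A A')) i A', (algebraMap A A' f ^ n) • x = 0 := by
  obtain ⟨n, hn⟩ := h
  obtain ⟨iso⟩ := Lib.LocalCoh.nonempty_lcBaseChangeIso A' I (ModuleCat.of A A) i
  let e : (A' ⊗[A] LocCoh.H I i A) ≃ₗ[A']
      LocCoh.H (I.map (algebraMap A A')) i (A' ⊗[A] A) := iso.toLinearEquiv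
  let r := TensorProduct.AlgebraTensorModule.rid A A' A'
  refine ⟨n, fun x => ?_⟩
  let g := Lib.LCFin.Seq.Hmap (I.map (algebraMap A A')) i r.toLinearMap
  let g' := Lib.LCFin.Seq.Hmap (I.map (algebraMap A A')) i r.symm.toLinearMap
  have hx : g (g' x) = x := by
    rw [← LinearMap.comp_apply, ← Lib.LCFin.Seq.Hmap_comp,
      show r.toLinearMap ∘ₗ r.symm.toLinearMap = LinearMap.id from
        LinearMap.ext fun z => r.apply_symm_apply z, Lib.LCFin.Seq.Hmap_id, LinearMap.id_apply]
  obtain ⟨t, ht⟩ := e.surjective (g' x)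
  rw [← hx, ← map_smul, ← ht, ← map_smul]
  suffices h : algebraMap A A' f ^ n • t = 0 by rw [h, map_zero, map_zero]
  clear hx ht
  induction t using TensorProduct.induction_on with
  | zero => exact smul_zero _
  | tmul c z =>
    rw [← map_pow, algebraMap_smul, ← TensorProduct.tmul_smul, hn, TensorProduct.tmul_zero]
  | add s t hs ht => rw [smul_add, hs, ht, add_zero]

/-- Extension from a hypersurface when powers of `f` kill `H¹` and `H²`. -/
theorem exists_extension_of_killed (A : Type u) [CommRing A] [IsNoetherianRing A]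
    [IsLocalRing A] (f : A) (hf : f ∈ maximalIdeal A)
    (h1 : ∃ n : ℕ, ∀ x : LocCoh.H (maximalIdeal A) 1 A, (f ^ n) • x = 0)
    (h2 : ∃ n : ℕ, ∀ x : LocCoh.H (maximalIdeal A) 2 A, (f ^ n) • x = 0)
    (V : FEt.Cat (FEt.puncturedSpec A : Scheme.{u}))
    (hV : ∃ Y₀ : FEt.Cat (Spec (CommRingCat.of (A ⧸ Ideal.span {f}))),
      Nonempty ((FEt.restrict (pullback.snd (FEt.puncturedSpec A).ι
        (Spec.map (CommRingCat.ofHom (Ideal.Quotient.mk (Ideal.span {f})))))).obj Y₀ ≅
        (FEt.restrict (pullback.fst (FEt.puncturedSpec A).ι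
        (Spec.map (CommRingCat.ofHom (Ideal.Quotient.mk (Ideal.span {f})))))).obj V)) :
    ∃ Y : FEt.Cat (Spec (CommRingCat.of A)),
      Nonempty ((FEt.restrict (FEt.puncturedSpec A).ι).obj Y ≅ V) := by
  obtain ⟨Y₀, ⟨e₀⟩⟩ := hV
  let A' := AdicCompletion (maximalIdeal A) A
  have := Extend.faithfullyFlat_completion A
  let φ : A →+* A' := algebraMap A A'
  have : IsAdicComplete (maximalIdeal A') A' :=
    AdicCompletion.isAdicComplete_of_fg (maximalIdeal A).fg_of_isNoetherianRing
  have : HenselianLocalRing A' := henselianLocalRing_of_complete A'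
  have hmax : maximalIdeal A' = (maximalIdeal A).map φ := AdicCompletion.maximalIdeal_eq_map (R := A)
  have h1' : ∃ n : ℕ, ∀ x : LocCoh.H (maximalIdeal A') 1 A', (φ f ^ n) • x = 0 := by
    rw [hmax]; exact exists_killed_baseChange _ f 1 h1
  have h2' : ∃ n : ℕ, ∀ x : LocCoh.H (maximalIdeal A') 2 A', (φ f ^ n) • x = 0 := by
    rw [hmax]; exact exists_killed_baseChange _ f 2 h2
  let I := Ideal.span ({f} : Set A)
  let I' := Ideal.span ({φ f} : Set A')
  have hfm : φ f ∈ maximalIdeal A' := by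
    rw [hmax]
    exact Ideal.mem_map_of_mem _ hf
  have : HenselianRing A' I' :=
    Lib.Henselian.Basic.henselianRing_of_le (J := maximalIdeal A')
      ((Ideal.span_singleton_le_iff_mem _).mpr hfm)
  let π : Spec (CommRingCat.of A') ⟶ Spec (CommRingCat.of A) := Spec.map (CommRingCat.ofHom φ)
  have : Flat π := (HasRingHomProperty.Spec_iff (P := @Flat)).mpr
    (RingHom.flat_algebraMap_iff.mpr inferInstance)
  have : Surjective π := ⟨PrimeSpectrum.comap_surjective_of_faithfullyFlat (A := A) (B := A')⟩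
  let θ : Spec (CommRingCat.of (A' ⧸ I')) ⟶ Spec (CommRingCat.of (A ⧸ I)) :=
    Spec.map (CommRingCat.ofHom (Ideal.quotientMap I' φ (Ideal.span_le.mpr
      (Set.singleton_subset_iff.mpr (show φ f ∈ I' from Ideal.subset_span rfl)))))
  let qA : Spec (CommRingCat.of (A ⧸ I)) ⟶ Spec (CommRingCat.of A) :=
    Spec.map (CommRingCat.ofHom (Ideal.Quotient.mk I))
  let qA' : Spec (CommRingCat.of (A' ⧸ I')) ⟶ Spec (CommRingCat.of A') :=
    Spec.map (CommRingCat.ofHom (Ideal.Quotient.mk I'))
  have hθ : θ ≫ qA = qA' ≫ π := by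
    rw [← Spec.map_comp, ← Spec.map_comp]
    rfl
  let U := FEt.puncturedSpec A
  let U' := FEt.puncturedSpec A'
  have hmem : ∀ x : Spec (CommRingCat.of A'), x ∈ U' ↔ π.base x ∈ U := fun x => by
    refine not_congr ⟨fun h => ?_, fun h => ?_⟩
    · rw [show (x : PrimeSpectrum A') = closedPoint A' from h]
      exact PrimeSpectrum.ext (IsLocalRing.maximalIdeal_comap φ)
    · refine PrimeSpectrum.ext ((le_maximalIdeal (x : PrimeSpectrum A').2.ne_top).antisymm ?_)
      refine hmax.le.trans ?_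
      rw [Ideal.map_le_iff_le_comap]
      exact (congrArg PrimeSpectrum.asIdeal h).ge
  let s : (U' : Scheme.{u}) ⟶ (U : Scheme.{u}) :=
    liftOpen U (U'.ι ≫ π) fun x => (hmem _).mp x.2
  have hs : s ≫ U.ι = U'.ι ≫ π := liftOpen_ι _ _ _
  -- lift over the completion
  let Z₀ := (FEt.restrict θ).obj Y₀
  have := Lib.FEt.HenselianPair.essSurj I'
  obtain ⟨Z, ⟨eZ⟩⟩ := this.mem_essImage Z₀
  let V' := (FEt.restrict s).obj V
  obtain ⟨_, hg⟩ := range_fst_quotient U' (Ideal.Quotient.mk I') Ideal.Quotient.mk_surjective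
  obtain ⟨_, _⟩ := full_and_faithful_of_killed A' (φ f) hfm h1' h2' (pullback.fst U'.ι qA') (by
    rw [hg, Ideal.mk_ker]
    ext x
    exact Ideal.span_singleton_le_iff_mem _)
  let P' := pullback U'.ι qA'
  let t : P' ⟶ pullback U.ι qA := pullback.lift (pullback.fst _ _ ≫ s) (pullback.snd _ _ ≫ θ) (by
    rw [Category.assoc, hs, Category.assoc, hθ, pullback.condition_assoc])
  let e₁ : (FEt.restrict U'.ι).obj Z ≅ V' := (FEt.restrict (pullback.fst U'.ι qA')).preimageIso
    (restrictSquare _ U'.ι (pullback.snd U'.ι qA') qA' pullback.condition Z ≪≫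
      (FEt.restrict (pullback.snd U'.ι qA')).mapIso eZ ≪≫
      restrictSquare _ θ t (pullback.snd U.ι qA) (pullback.lift_snd _ _ _).symm Y₀ ≪≫
      (FEt.restrict t).mapIso e₀ ≪≫
      restrictSquare _ _ (pullback.fst U'.ι qA') s (pullback.lift_fst _ _ _) V)
  -- descend
  have hext : Extend.Ext V.hom U.ι π := by
    refine Extend.Ext.of_iso U.ι π V Z ?_
    let r : pullback U.ι π ⟶ (U' : Scheme.{u}) := liftOpen U' (pullback.snd U.ι π) fun x => by
      rw [hmem, ← Scheme.Hom.comp_apply, ← pullback.condition, Scheme.Hom.comp_apply]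
      exact ((pullback.fst U.ι π).base x).2
    have hr : r ≫ U'.ι = pullback.snd U.ι π := liftOpen_ι _ _ _
    have hr' : r ≫ s = pullback.fst U.ι π := by
      rw [← cancel_mono U.ι, Category.assoc, hs, ← Category.assoc, hr, pullback.condition]
    exact eqToIso (by rw [hr]) ≪≫ (UnivHomeo.restrictComp r U'.ι).app Z ≪≫
      (FEt.restrict r).mapIso e₁ ≪≫ ((UnivHomeo.restrictComp r s).app V).symm ≪≫
      eqToIso (by rw [hr'])
  obtain ⟨Z₂, z₂, P, a, b, c, hz₂, hab, hcz, hac⟩ := hext
  have : IsFinite z₂ := hz₂.1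
  have : IsAffine Z₂ := isAffine_of_isAffineHom z₂
  have : IsFinite V.hom := V.prop.1
  obtain ⟨Y, y, j, τ, hτ, hp⟩ := Extend.exists_glue_completion A V.hom z₂ a b c hab hcz hac
  have hfs : (@Surjective ⊓ @Flat ⊓ @QuasiCompact : MorphismProperty Scheme.{u}) π :=
    ⟨⟨‹Surjective π›, ‹Flat π›⟩, inferInstance⟩
  have hy : FEt.prop.{u} y :=
    ⟨MorphismProperty.of_isPullback_of_descendsAlong (P := @IsFinite) hτ.flip hfs hz₂.1,
      MorphismProperty.of_isPullback_of_descendsAlong (P := @Etale) hτ.flip hfs hz₂.2⟩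
  exact ⟨MorphismProperty.Over.mk ⊤ y hy, UnivHomeo.nonempty_iso_of_isPullback U.ι V _ j hp⟩

end Groth.Agent.H80.Clopen
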