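import Groth.Agent.H80.Clopen.Torsion.Numer
import Groth.Agent.H80.Clopen.Regular
import Groth.Agent.Lib.LocalCoh.Killed
import Mathlib.RingTheory.Localization.Away.Basic

/-!
# Functions on the punctured spectrum inside `A_f`

If powers of `f` kill `H¹` and `H²`, the subring of `A_f` of elements which are regular on all charts
is finite over `A`, sections glue in it, and formal functions along `f` lift.
-/

set_option autoImplicit false
set_option backward.isDefEq.respectTransparency false

universe u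

open scoped Pointwise
open Groth.Agent.Lib.LocalCoh

namespace Groth.Agent.H80.Clopen.Torsion

variable {R : Type u} [CommRing R] {ι : Type} (a : ι → R) (f : R)

local notation "Rf" => Localization.Away f
local notation "II" => Ideal.span (Set.range a)

/-- The image of `R` in `R_f`. -/
noncomputable abbrev img : Submodule R (Localization.Away f) :=
  LinearMap.range (Algebra.linearMap R (Localization.Away f))

/-- The elements of `R_f` which lie in the image of `R` on every chart. -/
noncomputable def overring : Subalgebra R (Localization.Away f) where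
  carrier := {x | ∀ i, ∃ l : ℕ, a i ^ l • x ∈ img f}
  mul_mem' := fun {x y} hx hy i => by
    obtain ⟨l, c, hc⟩ := hx i
    obtain ⟨l', c', hc'⟩ := hy i
    refine ⟨l + l', c * c', ?_⟩
    rw [Algebra.linearMap_apply] at hc hc' ⊢
    rw [map_mul, hc, hc', smul_mul_smul_comm, ← pow_add]
  add_mem' := fun {x y} hx hy i => by
    obtain ⟨l, hl⟩ := hx i
    obtain ⟨l', hl'⟩ := hy i
    refine ⟨l + l', ?_⟩
    rw [smul_add]
    refine add_mem ?_ ?_
    · rw [add_comm, pow_add, mul_smul]; exact Submodule.smul_mem _ _ hl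
    · rw [pow_add, mul_smul]; exact Submodule.smul_mem _ _ hl'
  algebraMap_mem' := fun r i => ⟨0, by rw [pow_zero, one_smul]; exact ⟨r, rfl⟩⟩

theorem isUnit_f : IsUnit (algebraMap R Rf f) :=
  IsLocalization.Away.algebraMap_isUnit f

theorem smul_pow_injective (N : ℕ) : Function.Injective fun x : Rf => f ^ N • x := fun x y h => by
  simp only [Algebra.smul_def, map_pow] at h
  exact ((isUnit_f f).pow N).mul_left_cancel h

variable [Finite ι]

variable {a f} in
theorem exists_pow_eq_sum [Fintype ι] (hf : f ∈ II) (K : ℕ) :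
    ∃ (N : ℕ) (c : ι → R), f ^ N = ∑ i, c i * a i ^ K := by
  obtain ⟨P, hP⟩ := exists_pow_le_span_pow a K
  obtain ⟨c, hc⟩ := Ideal.mem_span_range_iff_exists_fun.mp (hP (Ideal.pow_mem_pow hf P))
  exact ⟨P, c, hc.symm⟩

variable {a f} in
theorem eq_zero_of_loc (hf : f ∈ II) {x : Rf} (hx : ∀ i, ∃ l : ℕ, a i ^ l • x = 0) : x = 0 := by
  have := Fintype.ofFinite ι
  obtain ⟨L, hL⟩ := exists_common_exponent a (fun _ => x) hx
  obtain ⟨N, c, hc⟩ := exists_pow_eq_sum hf L
  refine smul_pow_injective f N (?_ : f ^ N • x = f ^ N • (0 : Rf))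
  rw [smul_zero, hc, Finset.sum_smul]
  exact Finset.sum_eq_zero fun i _ => by rw [mul_smul, hL, smul_zero]

variable [IsNoetherianRing R]

omit [Finite ι] in
/-- The hypotheses on `R` pass to its image in `R_f`. -/
theorem exists_killed_img (i : ℕ)
    (h : ∃ n : ℕ, ∀ x : LocCoh.H II i R, (f ^ n) • x = 0) :
    ∃ n : ℕ, ∀ x : LocCoh.H II i (img f), (f ^ n) • x = 0 := by
  classical
  let σ := Algebra.linearMap R Rf
  let N := LinearMap.ker σ
  have hN : Killed.Killed (Ideal.span {f}) N := by
    rw [Killed.Killed, Ideal.span_singleton_le_iff_mem]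
    obtain ⟨S, hS⟩ := IsNoetherian.noetherian N
    have hS' : ∀ x : S, ∃ n : ℕ, f ^ n • (x : R) = 0 := fun x => by
      have hx : algebraMap R Rf x = 0 := (hS ▸ Submodule.subset_span x.2 : (x : R) ∈ N)
      obtain ⟨n, hn⟩ := IsLocalization.Away.exists_of_eq (S := Rf) f
        (a := (x : R)) (b := 0) (hx.trans (map_zero _).symm)
      exact ⟨n, by rw [smul_eq_mul, hn, mul_zero]⟩
    choose n hn using hS'
    refine ⟨Finset.univ.sup n, Module.mem_annihilator.2 ?_⟩
    suffices key : ∀ y ∈ Submodule.span R (S : Set R), f ^ Finset.univ.sup n • y = 0 from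
      fun y => Subtype.ext (key y.1 (hS.symm.le y.2))
    intro y hy
    induction hy using Submodule.span_induction with
    | mem y hy =>
      rw [← Nat.sub_add_cancel (Finset.le_sup (f := n) (Finset.mem_univ ⟨y, hy⟩)), pow_add, mul_smul,
        hn ⟨y, hy⟩, smul_zero]
    | zero => exact smul_zero _
    | add y z _ _ hy hz => rw [smul_add, hy, hz, add_zero]
    | smul t y _ hy => rw [smul_comm, hy, smul_zero]
  have h' : Killed.Killed (Ideal.span {f}) (LocCoh.H II i R) := by
    rw [Killed.Killed, Ideal.span_singleton_le_iff_mem]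
    obtain ⟨n, hn⟩ := h
    exact ⟨n, Module.mem_annihilator.2 hn⟩
  have h'' := (Killed.killed_H_quotient_iff II N hN i).mpr h'
  let e := σ.quotKerEquivRange
  have h3 : Killed.Killed (Ideal.span {f}) (LocCoh.H II i (img f)) := by
    refine Killed.of_surjective (f := Groth.Agent.Lib.LCFin.Seq.Hmap II i e.toLinearMap) (fun y =>
      ⟨Groth.Agent.Lib.LCFin.Seq.Hmap II i e.symm.toLinearMap y, ?_⟩) h''
    rw [← LinearMap.comp_apply, ← Groth.Agent.Lib.LCFin.Seq.Hmap_comp,
      show e.toLinearMap ∘ₗ e.symm.toLinearMap = LinearMap.id from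
        LinearMap.ext fun z => e.apply_symm_apply z, Groth.Agent.Lib.LCFin.Seq.Hmap_id,
      LinearMap.id_apply]
  obtain ⟨n, hn⟩ := h3 (Ideal.subset_span rfl)
  exact ⟨n, Module.mem_annihilator.1 hn⟩

variable {a f} {s : ℕ}

theorem smul_mem_img (hf : f ∈ II) (h1 : ∀ z : LocCoh.H II 1 (img f), f ^ s • z = 0)
    {x : Rf} (hx : x ∈ overring a f) : f ^ s • x ∈ img f := by
  choose l hl using hx
  have := Fintype.ofFinite ι
  let L := Finset.univ.sup l
  have hL : ∀ i, a i ^ L • x ∈ img f := fun i => by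
    rw [← Nat.sub_add_cancel (show l i ≤ L from Finset.le_sup (f := l) (Finset.mem_univ i)), pow_add, mul_smul]
    exact Submodule.smul_mem _ _ (hl i)
  obtain ⟨z, hz⟩ := glue_of_killed (M := img f) a h1 (k := L) (m := fun i => ⟨_, hL i⟩) fun i j =>
    ⟨0, Subtype.ext (by simp [smul_comm (a j ^ L) (a i ^ L)])⟩
  have : (z : Rf) = f ^ s • x := sub_eq_zero.mp (eq_zero_of_loc hf fun i => by
    obtain ⟨e, he⟩ := hz i
    refine ⟨e + L, ?_⟩
    have he' := congrArg Subtype.val he
    simp only [Submodule.coe_smul, Submodule.coe_sub, ZeroMemClass.coe_zero] at he'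
    rwa [smul_comm (f ^ s), ← smul_sub, ← mul_smul, ← pow_add] at he')
  exact this ▸ z.2

theorem finite_overring (hf : f ∈ II) (h1 : ∀ z : LocCoh.H II 1 (img f), f ^ s • z = 0) :
    Module.Finite R (overring a f) := by
  refine Module.Finite.of_injective
    (LinearMap.codRestrict (img f) ((f ^ s) • (overring a f).val.toLinearMap)
      fun x => smul_mem_img hf h1 x.2) fun x y h => Subtype.ext ?_
  exact smul_pow_injective f s (congrArg Subtype.val h)

/-- The charts on the overring. -/
noncomputable abbrev chart (i : ι) : overring a f := algebraMap R (overring a f) (a i)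

theorem val_chart_pow_mul (i : ι) (l : ℕ) (x : overring a f) :
    ((chart i ^ l * x : overring a f) : Rf) = a i ^ l • (x : Rf) := by
  rw [Algebra.smul_def, map_pow]
  rfl

theorem sep_overring (hf : f ∈ II) : Sep (chart (a := a) (f := f)) (overring a f) ⊥ := fun x hx => by
  have : (x : Rf) = 0 := eq_zero_of_loc hf fun i => by
    obtain ⟨l, hl⟩ := hx i
    rw [mem_smul_top_self, Ideal.mem_bot] at hl
    exact ⟨l, (val_chart_pow_mul i l x).symm.trans (congrArg Subtype.val hl)⟩
  rw [show x = 0 from Subtype.ext this]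
  exact zero_mem _

theorem glue_overring (hf : f ∈ II) (h1 : ∀ z : LocCoh.H II 1 (img f), f ^ s • z = 0) :
    Glue (chart (a := a) (f := f)) (overring a f) ⊥ := by
  intro k m hm
  obtain ⟨z, hz⟩ := glue_of_killed (M := img f) a h1 (k := k)
    (m := fun i => ⟨f ^ s • (m i : Rf), smul_mem_img hf h1 (m i).2⟩) fun i j => by
    obtain ⟨l, hl⟩ := hm i j
    rw [mem_smul_top_self, Ideal.mem_bot] at hl
    refine ⟨l, Subtype.ext ?_⟩
    have hl' := congrArg Subtype.val hl
    simp only [smul_eq_mul, Subalgebra.coe_mul, Subalgebra.coe_sub, Subalgebra.coe_pow,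
      Subalgebra.coe_algebraMap, ZeroMemClass.coe_zero] at hl'
    simp only [Submodule.coe_smul, Submodule.coe_sub, ZeroMemClass.coe_zero, Algebra.smul_def,
      map_pow, map_mul]
    linear_combination (algebraMap R Rf f) ^ s * hl'
  obtain ⟨v, hv⟩ := (isUnit_f f).pow (s + s)
  have hv' : (↑v⁻¹ : Rf) * (algebraMap R Rf f) ^ (s + s) = 1 := by rw [← hv]; exact v.inv_mul
  let x : Rf := (↑v⁻¹ : Rf) * (z : Rf)
  have hx : ∀ i, ∃ e : ℕ, a i ^ e • (a i ^ k • x - (m i : Rf)) = 0 := fun i => by
    obtain ⟨e, he⟩ := hz i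
    refine ⟨e, ?_⟩
    have he' := congrArg Subtype.val he
    simp only [Submodule.coe_smul, Submodule.coe_sub, ZeroMemClass.coe_zero, Algebra.smul_def,
      map_pow] at he' ⊢
    simp only [x]
    linear_combination (↑v⁻¹ : Rf) * he' + (algebraMap R Rf (a i)) ^ e * (m i : Rf) * hv'
  have hxB : x ∈ overring a f := fun i => by
    obtain ⟨e, he⟩ := hx i
    obtain ⟨l, hl⟩ := (m i).2 i
    refine ⟨l + (e + k), ?_⟩
    rw [pow_add, pow_add, mul_smul, mul_smul]
    rw [smul_sub, sub_eq_zero] at he
    rw [he, smul_comm]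
    exact Submodule.smul_mem _ _ hl
  refine ⟨⟨x, hxB⟩, fun i => ?_⟩
  obtain ⟨e, he⟩ := hx i
  refine ⟨e, mem_smul_top_self.mpr (Ideal.mem_bot.mpr (Subtype.ext ?_))⟩
  simp only [smul_eq_mul, Subalgebra.coe_mul, Subalgebra.coe_sub, Subalgebra.coe_pow,
    Subalgebra.coe_algebraMap, ZeroMemClass.coe_zero]
  simpa [Algebra.smul_def] using he

/-- Čech cocycles in the overring become coboundaries after multiplication by `f ^ (s + s)`. -/
theorem h1Kill_overring (hf : f ∈ II) (h1 : ∀ z : LocCoh.H II 1 (img f), f ^ s • z = 0)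
    (h2 : ∀ z : LocCoh.H II 2 (img f), f ^ s • z = 0)
    (K : ℕ) (u : ι → ι → overring a f) (hanti : ∀ i j, u i j + u j i = 0)
    (hcoc : ∀ i j t, chart t ^ K * u i j - chart j ^ K * u i t + chart i ^ K * u j t = 0) :
    ∃ (l : ℕ) (w : ι → overring a f), ∀ i j,
      (chart i * chart j) ^ l * (algebraMap R (overring a f) f ^ (s + s) * u i j) =
        chart j ^ (K + l) * w i - chart i ^ (K + l) * w j := by
  have := Fintype.ofFinite ι
  let α : ι → Rf := fun i => algebraMap R Rf (a i)
  let φ : Rf := algebraMap R Rf f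
  obtain ⟨N, c, hc⟩ := exists_pow_eq_sum hf K
  have hc' : φ ^ N = ∑ i, algebraMap R Rf (c i) * α i ^ K := by
    simp only [φ, α, ← map_pow, hc, map_sum, map_mul]
  let v : ι → ι → img f := fun i j => ⟨f ^ s • (u i j : Rf), smul_mem_img hf h1 (u i j).2⟩
  let W : ι → img f := fun i => ∑ j, c j • v i j
  have hW : ∀ i t, a t ^ K • W i - a i ^ K • W t = f ^ N • v i t := fun i t => by
    refine Subtype.ext ?_
    simp only [W, v, Submodule.coe_smul, Submodule.coe_sub, Submodule.coe_sum, Algebra.smul_def,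
      map_pow]
    change α t ^ K * _ - α i ^ K * _ = φ ^ N * _
    rw [hc', Finset.sum_mul, Finset.mul_sum, Finset.mul_sum, ← Finset.sum_sub_distrib]
    refine Finset.sum_congr rfl fun j _ => ?_
    have e1 := congrArg Subtype.val (hcoc i j t)
    have e2 := congrArg Subtype.val (hanti j t)
    simp only [Subalgebra.coe_mul, Subalgebra.coe_sub, Subalgebra.coe_add, Subalgebra.coe_pow,
      Subalgebra.coe_algebraMap, ZeroMemClass.coe_zero] at e1 e2
    linear_combination φ ^ s * algebraMap R Rf (c j) * e1 -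
      φ ^ s * algebraMap R Rf (c j) * α i ^ K * e2
  obtain ⟨k', p, hp, hpW⟩ := lift_of_killed (M := img f) a h2 N
    (fun x y h => Subtype.ext (smul_pow_injective f N (congrArg Subtype.val h)))
    (k := K) (m := W) fun i j => ⟨0, v i j, by rw [pow_zero, one_smul, hW]⟩
  let q : ι → overring a f := fun i => ⟨(p i : Rf), fun t => ⟨0, by
    rw [pow_zero, one_smul]; exact (p i).2⟩⟩
  obtain ⟨x, hx⟩ := glue_overring hf h1 k' q fun i j => ⟨0, by
    rw [mem_smul_top_self, Ideal.mem_bot, pow_zero, one_smul]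
    refine Subtype.ext ?_
    have e := congrArg Subtype.val (hp i j)
    simp only [smul_eq_mul, Subalgebra.coe_mul, Subalgebra.coe_sub, Subalgebra.coe_pow,
      Subalgebra.coe_algebraMap, ZeroMemClass.coe_zero]
    simp only [Submodule.coe_smul, Algebra.smul_def, map_pow] at e
    exact sub_eq_zero.mpr e⟩
  have hq : ∀ i, ∃ (L : ℕ) (y : overring a f),
      α i ^ L * (α i ^ K * (x : Rf) - φ ^ s * (W i : Rf)) = φ ^ N * (y : Rf) := fun i => by
    obtain ⟨l, w, hw⟩ := hpW i
    obtain ⟨e, he⟩ := hx i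
    rw [mem_smul_top_self, Ideal.mem_bot] at he
    have he' := congrArg Subtype.val he
    have hw' := congrArg Subtype.val hw
    simp only [smul_eq_mul, Subalgebra.coe_mul, Subalgebra.coe_sub, Subalgebra.coe_pow,
      Subalgebra.coe_algebraMap, ZeroMemClass.coe_zero] at he'
    simp only [Submodule.coe_smul, Submodule.coe_sub, Algebra.smul_def, map_pow] at hw'
    refine ⟨l + e + k', ⟨a i ^ e • (w : Rf), fun t => ⟨0, by
      rw [pow_zero, one_smul]; exact Submodule.smul_mem _ _ w.2⟩⟩, ?_⟩
    simp only [Algebra.smul_def, map_pow]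
    simp only [q] at he'
    linear_combination α i ^ (l + K) * he' + α i ^ e * hw'
  choose L y hy using hq
  let M := Finset.univ.sup L
  refine ⟨M, fun i => -(chart i ^ (M - L i) * y i), fun i j => Subtype.ext ?_⟩
  have hy' : ∀ i, α i ^ M * (α i ^ K * (x : Rf) - φ ^ s * (W i : Rf)) =
      φ ^ N * (α i ^ (M - L i) * (y i : Rf)) := fun i => by
    rw [mul_left_comm, ← hy i, ← mul_assoc, ← pow_add,
      Nat.sub_add_cancel (Finset.le_sup (f := L) (Finset.mem_univ i))]
  simp only [Subalgebra.coe_mul, Subalgebra.coe_sub, Subalgebra.coe_pow, Subalgebra.coe_neg,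
    Subalgebra.coe_algebraMap]
  refine ((isUnit_f f).pow N).mul_left_cancel ?_
  have e := congrArg Subtype.val (hW i j)
  simp only [v, Submodule.coe_smul, Submodule.coe_sub, Algebra.smul_def, map_pow] at e
  linear_combination -(α i ^ M * α j ^ M * φ ^ s) * e - α j ^ (K + M) * hy' i +
    α i ^ (K + M) * hy' j

end Groth.Agent.H80.Clopen.Torsion
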