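import Groth.Agent.H80.Clopen.Torsion.Overring
import Groth.Agent.H80.Clopen.Scheme
import Groth.Agent.H80.Clopen.Principal
import Mathlib.AlgebraicGeometry.Morphisms.ClosedImmersion

/-!
# Full faithfulness when powers of `f` kill `H¹` and `H²`
-/

set_option autoImplicit false
set_option backward.isDefEq.respectTransparency false

universe u

open CategoryTheory CategoryTheory.Limits AlgebraicGeometry IsLocalRing
open Groth.Agent.H80.Clopen.Torsion

namespace Groth.Agent.H80.Clopen

/-- Formal functions lift when Čech cocycles become coboundaries after multiplying by `φ ^ t`. -/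
theorem lift_of_h1Kill {B : Type*} [CommRing B] {ι : Type*} [Finite ι] {a : ι → B} {φ : B}
    (hφ : ∀ (n : ℕ) (x : B), φ ^ n * x = 0 → x = 0) (hg : Glue a B ⊥) (t : ℕ)
    (h1 : ∀ (K : ℕ) (u : ι → ι → B), (∀ i j, u i j + u j i = 0) →
      (∀ i j k, a k ^ K * u i j - a j ^ K * u i k + a i ^ K * u j k = 0) →
      ∃ (l : ℕ) (w : ι → B),
        ∀ i j, (a i * a j) ^ l * (φ ^ t * u i j) = a j ^ (K + l) * w i - a i ^ (K + l) * w j) :
    Lift a B (Ideal.span {φ}) := by
  intro n
  refine ⟨n + t, fun k m hm => ?_⟩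
  obtain ⟨l, hl⟩ := hm.exists_exact
  simp only [Ideal.span_singleton_pow] at hl
  choose u hu using fun i j => Ideal.mem_span_singleton'.mp (hl i j)
  let K := k + l
  let m' : ι → B := fun i => a i ^ l * m i
  have hv : ∀ i j, a j ^ K * m' i - a i ^ K * m' j = φ ^ n * (φ ^ t * u i j) := fun i j => by
    simp only [K, m']
    rw [← hu i j, pow_add φ n t]
    ring
  obtain ⟨l', w, hw⟩ := h1 K u
    (fun i j => hφ (n + t) _ (by linear_combination hu i j + hu j i))
    (fun i j s => hφ (n + t) _ (by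
      linear_combination (a s ^ K) * hu i j - (a j ^ K) * hu i s + (a i ^ K) * hu j s))
  obtain ⟨x, hx⟩ := hg (K + l') (fun i => a i ^ l' * m' i - φ ^ n * w i) fun i j => ⟨0, by
    rw [pow_zero, one_smul, mem_smul_top_self, Ideal.mem_bot, smul_eq_mul, smul_eq_mul]
    linear_combination (a i * a j) ^ l' * hv i j + φ ^ n * hw i j⟩
  refine ⟨x, fun i => ?_⟩
  obtain ⟨l'', hl''⟩ := hx i
  rw [mem_smul_top_self, Ideal.mem_bot, smul_eq_mul, smul_eq_mul] at hl''
  refine ⟨l'' + (l + l'), mem_smul_top_self.mpr ?_⟩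
  rw [Ideal.span_singleton_pow, Ideal.mem_span_singleton']
  refine ⟨-(a i ^ l'' * w i), ?_⟩
  simp only [smul_eq_mul, K, m'] at hl'' ⊢
  linear_combination -hl''

/-- A cover without points over `V(J)` is empty. -/
theorem isEmpty_of_forall {B : Type u} [CommRing B] [IsNoetherianRing B] {ι : Type} [Finite ι]
    {a : ι → B} {U : (Spec (CommRingCat.of B)).Opens} {W : Scheme.{u}} (q : W ⟶ (U : Scheme.{u}))
    (hq : FEt.prop.{u} q) (hB : Charts a U) (J : Ideal B) [HenselianRing B J] (hL : Lift a B J)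
    (hV : Vanish a B J)
    (h : ∀ w, ¬ J ≤ (((q ≫ U.ι).base w : Spec (CommRingCat.of B)) : PrimeSpectrum B).asIdeal) :
    IsEmpty W := by
  have hU := hB.toCover
  let := (str (q ≫ U.ι)).toAlgebra
  obtain ⟨_, -, -, hprop⟩ := exists_props hU q hq hB
  obtain ⟨-, hV'⟩ := hprop J hL hV
  have h1 : (1 : Γ(W, ⊤)) = 0 := eq_zero_of_idempotent J hV' IsIdempotentElem.one fun i p hp => by
    obtain ⟨w, rfl⟩ := mem_range_toSpecΓ hU q hq i p hp.1
    refine absurd ?_ (h w)
    rw [asIdeal_apply]
    exact Ideal.map_le_iff_le_comap.mp hp.2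
  refine ⟨fun w => ((W.toSpecΓ.base w : Spec Γ(W, ⊤)) : PrimeSpectrum Γ(W, ⊤)).2.ne_top
    ((Ideal.eq_top_iff_one _).mpr (h1 ▸ zero_mem _))⟩

/-- Full faithfulness when powers of `f` kill `H¹` and `H²`. -/
theorem full_and_faithful_of_killed (A : Type u) [CommRing A] [IsNoetherianRing A] [IsLocalRing A]
    (f : A) (hf : f ∈ maximalIdeal A) [HenselianRing A (Ideal.span {f})]
    (h1 : ∃ n : ℕ, ∀ x : LocCoh.H (maximalIdeal A) 1 A, (f ^ n) • x = 0)
    (h2 : ∃ n : ℕ, ∀ x : LocCoh.H (maximalIdeal A) 2 A, (f ^ n) • x = 0)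
    {U₀ : Scheme.{u}} (g : U₀ ⟶ (FEt.puncturedSpec A : Scheme.{u})) [IsClosedImmersion g]
    (hg : Set.range g.base = {x | f ∈ (((FEt.puncturedSpec A).ι.base x :
      Spec (CommRingCat.of A)) : PrimeSpectrum A).asIdeal}) :
    (FEt.restrict g).Full ∧ (FEt.restrict g).Faithful := by
  obtain ⟨n, a, ha⟩ := exists_generators A
  rw [← ha] at hf h1 h2
  obtain ⟨s₁, h1'⟩ := exists_killed_img a f 1 h1
  obtain ⟨s₂, h2'⟩ := exists_killed_img a f 2 h2
  have H1 : ∀ z : LocCoh.H (Ideal.span (Set.range a)) 1 (img f), f ^ (s₁ + s₂) • z = 0 := fun z => by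
    rw [add_comm, pow_add, mul_smul, h1', smul_zero]
  have H2 : ∀ z : LocCoh.H (Ideal.span (Set.range a)) 2 (img f), f ^ (s₁ + s₂) • z = 0 := fun z => by
    rw [pow_add, mul_smul, h2', smul_zero]
  let B := overring a f
  have : Module.Finite A B := finite_overring hf H1
  have : IsNoetherianRing B := isNoetherian_of_tower A (inferInstanceAs (IsNoetherian A B))
  let U := FEt.puncturedSpec A
  let π : Spec (CommRingCat.of B) ⟶ Spec (CommRingCat.of A) :=
    Spec.map (CommRingCat.ofHom (algebraMap A B))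
  let U' : (Spec (CommRingCat.of B)).Opens := π ⁻¹ᵁ U
  let π' : (U' : Scheme.{u}) ⟶ (U : Scheme.{u}) := π ∣_ U
  -- the charts on the overring
  have hcover : Cover (chart (a := a) (f := f)) U' := ⟨fun p => mem_puncturedSpec_iff ha (π.base p)⟩
  have hB : Charts (chart (a := a) (f := f)) U' :=
    ⟨hcover, sep_overring hf, glue_overring hf H1⟩
  let φ : B := algebraMap A B f
  have hφ : ∀ (k : ℕ) (x : B), φ ^ k * x = 0 → x = 0 := fun k x hx => Subtype.ext (by
    have := congrArg Subtype.val hx
    exact ((isUnit_f f).pow k).mul_right_eq_zero.mp this)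
  have hL : Lift (chart (a := a) (f := f)) B (Ideal.span {φ}) :=
    lift_of_h1Kill hφ hB.glue _ fun K u hu hc => h1Kill_overring hf H1 H2 K u hu hc
  have hV : Vanish (chart (a := a) (f := f)) B (Ideal.span {φ}) :=
    vanish_of_principal (c := 0) hB.sep hB.glue fun k x hx => by
      rw [hφ _ x hx, mul_zero]
  have : HenselianRing B (Ideal.span {φ}) := by
    have := Lib.Henselian.Pair.henselianRing_of_isIntegral (Ideal.span {f}) B
    rwa [Ideal.map_span, Set.image_singleton] at this
  -- the overring is a closed subscheme of the punctured spectrum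
  have hπ : IsClosedImmersion π' := by
    let V : Fin n → (U : Scheme.{u}).Opens := fun i => U.ι ⁻¹ᵁ PrimeSpectrum.basicOpen (a i)
    refine IsZariskiLocalAtTarget.of_iSup_eq_top (P := @IsClosedImmersion) V ?_ fun i => ?_
    · refine top_le_iff.mp fun x _ => ?_
      obtain ⟨i, hi⟩ := (mem_puncturedSpec_iff ha _).mp x.2
      exact TopologicalSpace.Opens.mem_iSup.mpr ⟨i, hi⟩
    · refine (MorphismProperty.arrow_mk_iso_iff @IsClosedImmersion
        (morphismRestrictRestrict π U (V i))).mpr ?_
      have hV' : U.ι ''ᵁ V i = PrimeSpectrum.basicOpen (a i) := by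
        rw [Scheme.Hom.image_preimage_eq_opensRange_inf, Scheme.Opens.opensRange_ι]
        exact inf_of_le_right fun p hp => (mem_puncturedSpec_iff ha p).mpr ⟨i, hp⟩
      rw [hV']
      refine (MorphismProperty.arrow_mk_iso_iff @IsClosedImmersion
        (SpecMapRestrictBasicOpenIso (CommRingCat.ofHom (algebraMap A B)) (a i))).mpr ?_
      refine IsClosedImmersion.spec_of_surjective _ fun z => ?_
      obtain ⟨x, ⟨_, k, rfl⟩, rfl⟩ := IsLocalization.exists_mk'_eq
        (S := Localization.Away (algebraMap A B (a i))) (Submonoid.powers (algebraMap A B (a i))) z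
      obtain ⟨l, c, hc⟩ := x.2 i
      refine ⟨IsLocalization.mk' (Localization.Away (a i)) c
        (⟨a i ^ (l + k), l + k, rfl⟩ : Submonoid.powers (a i)), ?_⟩
      refine (IsLocalization.map_mk' (Q := Localization.Away (algebraMap A B (a i))) (T := Submonoid.powers (algebraMap A B (a i))) (g := algebraMap A B) (show Submonoid.powers (a i) ≤ (Submonoid.powers (algebraMap A B (a i))).comap (algebraMap A B) from Submonoid.powers_le.mpr ⟨1, pow_one _⟩) _ _).trans ?_
      refine IsLocalization.mk'_eq_of_eq ?_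
      change algebraMap A B (a i ^ (l + k)) * x = algebraMap A B (a i) ^ k * algebraMap A B c
      rw [map_pow]
      refine Subtype.ext ?_
      simp only [Subalgebra.coe_mul, Subalgebra.coe_pow, Subalgebra.coe_algebraMap]
      rw [Algebra.linearMap_apply, Algebra.smul_def, map_pow] at hc
      rw [hc]
      ring
  have hι : ∀ v : (U' : Scheme.{u}), U.ι.base (π'.base v) = π.base (U'.ι.base v) := fun v => by
    rw [← Scheme.Hom.comp_apply, morphismRestrict_ι, Scheme.Hom.comp_apply]
  have hrange : ∀ v : (U : Scheme.{u}), v ∉ Set.range g.base → v ∈ Set.range π'.base := fun v hv => by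
    have hfv : f ∉ ((U.ι.base v : Spec (CommRingCat.of A)) : PrimeSpectrum A).asIdeal :=
      fun h => hv (hg ▸ h)
    obtain ⟨r, hr⟩ : ((U.ι.base v : Spec (CommRingCat.of A)) : PrimeSpectrum A) ∈
        Set.range (PrimeSpectrum.comap (algebraMap A (Localization.Away f))) := by
      rw [PrimeSpectrum.localization_away_comap_range (Localization.Away f) f]
      exact hfv
    let p : Spec (CommRingCat.of B) := PrimeSpectrum.comap B.val.toRingHom r
    have hp : π.base p = U.ι.base v := hr
    refine ⟨⟨p, show π.base p ∈ U by rw [hp]; exact v.2⟩, U.ι.isOpenEmbedding.injective ?_⟩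
    rw [hι]
    exact hp
  have hJ : ∀ v : (U' : Scheme.{u}),
      Ideal.span {φ} ≤ ((U'.ι.base v : Spec (CommRingCat.of B)) : PrimeSpectrum B).asIdeal ↔
        π'.base v ∈ Set.range g.base := fun v => by
    rw [hg, Set.mem_ofPred_eq, hι, Ideal.span_singleton_le_iff_mem]
    rfl
  refine Lib.FEt.FullyFaithful.full_and_faithful g (fun S hS hne => ?_) fun Y C hC => ?_
  · by_contra hno
    have hdis : ∀ v ∈ S, v ∉ Set.range g.base := fun v hv hv' => hno ⟨v, hv, hv'⟩
    obtain ⟨v, hv⟩ := hne
    obtain ⟨v', rfl⟩ := hrange v (hdis v hv)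
    let S' : (U' : Scheme.{u}).Opens := ⟨π'.base ⁻¹' S, hS.isOpen.preimage π'.continuous⟩
    have hcl : IsClosed (Set.range S'.ι.base) := by
      rw [Scheme.Opens.range_ι]
      exact hS.isClosed.preimage π'.continuous
    have : IsClosedImmersion S'.ι := IsClosedImmersion.of_isPreimmersion _ hcl
    have hq : FEt.prop.{u} S'.ι := ⟨inferInstance, inferInstance⟩
    have := isEmpty_of_forall S'.ι hq hB (Ideal.span {φ}) hL hV fun w hw => by
      exact hdis _ w.2 ((hJ (S'.ι.base w)).mp hw)
    exact this.elim ⟨v', hv⟩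
  · let w : Y.left ⟶ (U : Scheme.{u}) := Y.hom
    let κ := pullback.fst w π'
    let q := pullback.snd w π'
    have hq : FEt.prop.{u} q := MorphismProperty.pullback_snd w π' Y.prop
    have : IsClosedImmersion κ := MorphismProperty.pullback_fst _ _ hπ
    let e := pullback.fst w g
    have he := e.isClosedEmbedding
    have hS : Set.range e.base = w.base ⁻¹' Set.range g.base := Scheme.Pullback.range_fst _ _
    let P' := {x : (pullback w π' : Scheme.{u}) // κ.base x ∈ Set.range e.base}
    let τ : P' → (pullback w g : Scheme.{u}) :=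
      fun p => he.isEmbedding.toHomeomorph.symm ⟨κ.base p.1, p.2⟩
    have hτ : ∀ p, e.base (τ p) = κ.base p.1 := fun p =>
      congrArg Subtype.val (he.isEmbedding.toHomeomorph.apply_symm_apply ⟨κ.base p.1, p.2⟩)
    have hτc : Continuous τ := he.isEmbedding.toHomeomorph.symm.continuous.comp
      ((κ.continuous.comp continuous_subtype_val).subtype_mk _)
    obtain ⟨D', hD', hD'C, -⟩ := exists_clopen hcover q hq hB (Ideal.span {φ}) hL hV
      (fun p : P' => p.1) Topology.IsEmbedding.subtypeVal (by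
        rw [Subtype.range_coe_subtype]
        ext x
        change κ.base x ∈ Set.range e.base ↔ _
        rw [hS, Set.mem_preimage, Set.mem_ofPred_eq, Scheme.Hom.comp_apply, hJ,
          ← Scheme.Hom.comp_apply, pullback.condition, Scheme.Hom.comp_apply]) (τ ⁻¹' C)
      (hC.preimage hτc)
    have hkey : ∀ x y, κ.base x = e.base y → (x ∈ D' ↔ y ∈ C) := fun x y hxy => by
      have hy : τ ⟨x, y, hxy.symm⟩ = y := he.injective ((hτ _).trans hxy)
      refine (Set.ext_iff.mp hD'C ⟨x, y, hxy.symm⟩).trans ?_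
      rw [Set.mem_preimage, hy]
    let D : Set Y.left := κ.base '' D' ∪ e.base '' C
    let E : Set Y.left := κ.base '' D'ᶜ ∪ e.base '' Cᶜ
    have hDE : Dᶜ = E := by
      ext y
      constructor
      · intro hy
        by_cases h : y ∈ Set.range e.base
        · obtain ⟨z, rfl⟩ := h
          exact Or.inr ⟨z, fun hz => hy (Or.inr ⟨z, hz, rfl⟩), rfl⟩
        · rw [hS] at h
          obtain ⟨v, hv⟩ := hrange _ h
          obtain ⟨x, hx, -⟩ := Scheme.Pullback.exists_preimage_pullback (f := w) (g := π') y v hv.symm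
          exact Or.inl ⟨x, fun hx' => hy (Or.inl ⟨x, hx', hx⟩), hx⟩
      · rintro (⟨x, hx, rfl⟩ | ⟨z, hz, rfl⟩) (⟨x', hx', hxx⟩ | ⟨z', hz', hzz⟩)
        · exact hx (κ.isClosedEmbedding.injective hxx ▸ hx')
        · exact hx ((hkey x z' hzz.symm).mpr hz')
        · exact hz ((hkey x' z hxx).mp hx')
        · exact hz (he.injective hzz ▸ hz')
    refine ⟨D, ⟨(κ.isClosedEmbedding.isClosedMap _ hD'.isClosed).union
      (he.isClosedMap _ hC.isClosed), ?_⟩, ?_⟩
    · rw [← isClosed_compl_iff, hDE]
      exact (κ.isClosedEmbedding.isClosedMap _ hD'.compl.isClosed).union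
        (he.isClosedMap _ hC.compl.isClosed)
    · ext z
      refine ⟨?_, fun hz => Or.inr ⟨z, hz, rfl⟩⟩
      rintro (⟨x, hx, hxz⟩ | ⟨z', hz', hzz⟩)
      · exact (hkey x z hxz).mp hx
      · exact he.injective hzz ▸ hz'

end Groth.Agent.H80.Clopen
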